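import Groth.Agent.EulerLib.Additive
import Groth.Agent.Coherent.CohOps

/-!
# Dimension inequalities along exact sequences of coherent modules
-/

set_option autoImplicit false
set_option backward.isDefEq.respectTransparency false
set_option linter.style.haveILetI false

universe u

open CategoryTheory CategoryTheory.Limits AlgebraicGeometry
open Groth.Agent.Coherent Groth.Agent.EulerLib

namespace Groth.Agent.LESBound

theorem finrank_le_add {k P Q R : Type u} [Field k] [AddCommGroup P] [Module k P] [AddCommGroup Q]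
    [Module k Q] [AddCommGroup R] [Module k R] [Module.Finite k P] [Module.Finite k Q] [Module.Finite k R]
    (f : P →ₗ[k] Q) (g : Q →ₗ[k] R) (h : Function.Exact f g) :
    Module.finrank k Q ≤ Module.finrank k P + Module.finrank k R := by
  have e1 := g.finrank_range_add_finrank_ker
  have e2 := f.finrank_range_le
  have e3 := Submodule.finrank_le (LinearMap.range g)
  rw [LinearMap.exact_iff.1 h] at e1
  omega

theorem finrank_le_of_injective' {k P Q : Type u} [Field k] [AddCommGroup P] [Module k P] [AddCommGroup Q]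
    [Module k Q] [Module.Finite k Q] (f : P →ₗ[k] Q) (h : Function.Injective f) :
    Module.finrank k P ≤ Module.finrank k Q :=
  LinearMap.finrank_le_finrank_of_injective h

variable (k : Type u) [Field k] {X : Scheme.{u}} [X.Over (Spec (CommRingCat.of k))]

/-- Dimension of cohomology. -/
noncomputable def hdim (M : X.Modules) (q : ℕ) : ℕ := Module.finrank k (Coh.HH X M q)

theorem hdim_eq (M : X.Modules) (q : ℕ) :
    hdim k M q = Module.finrank k (HA (baseHom k X) M (⊤ : X.Opens) q) :=
  (HHBaseEquiv k M q).finrank_eq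

variable [IsProper (X ↘ Spec (CommRingCat.of k))] (S : ShortComplex X.Modules) (hS : S.ShortExact)
  (h1 : Coh.IsCoh S.X₁) (h2 : Coh.IsCoh S.X₂) (h3 : Coh.IsCoh S.X₃) (q : ℕ)

include hS h1 h2 h3

theorem hdim_mid : hdim k S.X₂ q ≤ hdim k S.X₁ q + hdim k S.X₃ q := by
  haveI := finCoh_of_isProper (X ↘ Spec (CommRingCat.of k)) S.X₁ h1 q
  haveI := finCoh_of_isProper (X ↘ Spec (CommRingCat.of k)) S.X₂ h2 q
  haveI := finCoh_of_isProper (X ↘ Spec (CommRingCat.of k)) S.X₃ h3 q
  simp only [hdim_eq]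
  exact finrank_le_add (postA (baseHom k X) S.f ⊤ q) (postA (baseHom k X) S.g ⊤ q) (exact_postA _ hS ⊤ q)

theorem hdim_left_zero : hdim k S.X₁ 0 ≤ hdim k S.X₂ 0 := by
  haveI := finCoh_of_isProper (X ↘ Spec (CommRingCat.of k)) S.X₂ h2 0
  simp only [hdim_eq]
  exact finrank_le_of_injective' (postA (baseHom k X) S.f ⊤ 0) (postA_zero_injective _ hS ⊤)

theorem hdim_left_succ : hdim k S.X₁ (q + 1) ≤ hdim k S.X₂ (q + 1) + hdim k S.X₃ q := by
  haveI := finCoh_of_isProper (X ↘ Spec (CommRingCat.of k)) S.X₁ h1 (q + 1)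
  haveI := finCoh_of_isProper (X ↘ Spec (CommRingCat.of k)) S.X₂ h2 (q + 1)
  haveI := finCoh_of_isProper (X ↘ Spec (CommRingCat.of k)) S.X₃ h3 q
  simp only [hdim_eq]
  have := finrank_le_add (deltaA (baseHom k X) hS ⊤ q) (postA (baseHom k X) S.f ⊤ (q + 1))
    (exact_deltaA_postA _ hS ⊤ q)
  omega

omit hS h1 h2 h3

variable (C : ℕ → X.Modules) (hC : ∀ j, Coh.IsCoh (C j)) (d : ∀ j, C j ⟶ C (j + 1))
  (hd : ∀ j, d j ≫ d (j + 1) = 0) (hex : ∀ j, (ShortComplex.mk (d j) (d (j + 1)) (hd j)).Exact)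

/-- The short sequences of cokernels. -/
noncomputable def cokSeq (m : ℕ) : ShortComplex X.Modules :=
  ShortComplex.mk (cokernel.desc (d m) (d (m + 1)) (hd m)) (cokernel.π (d (m + 1)))
    (by rw [← cancel_epi (cokernel.π (d m)), cokernel.π_desc_assoc, cokernel.condition, comp_zero])

include hex in
theorem cokSeq_shortExact (m : ℕ) : (cokSeq C d hd m).ShortExact := by
  haveI : Mono (cokernel.desc (d m) (d (m + 1)) (hd m)) :=
    (ShortComplex.exact_iff_mono_cokernel_desc _).1 (hex m)
  have he : (ShortComplex.mk (d (m + 1)) (cokernel.π (d (m + 1))) (cokernel.condition _)).Exact :=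
    ShortComplex.exact_of_g_is_cokernel _ (cokernelIsCokernel _)
  exact { exact := (ShortComplex.exact_iff_of_epi_of_isIso_of_mono
      (S₁ := ShortComplex.mk (d (m + 1)) (cokernel.π (d (m + 1))) (cokernel.condition _)) (S₂ := cokSeq C d hd m)
      { τ₁ := cokernel.π (d m), τ₂ := 𝟙 _, τ₃ := 𝟙 _,
        comm₁₂ := by simp [cokSeq], comm₂₃ := by simp [cokSeq] }).1 he
          mono_f := ‹_›
          epi_g := show Epi (cokernel.π (d (m + 1))) from inferInstance }

include hC hex in
theorem hdim_cok_le (q : ℕ) : ∀ m, hdim k (cokernel (d m)) q ≤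
    ∑ l ∈ Finset.range (q + 1), hdim k (C (m + 2 + l)) (q - l) := by
  have hK : ∀ m, Coh.IsCoh (cokernel (d m)) := fun m => isCoh_cokernel (d m) (hC m).1 (hC (m + 1))
  induction q with
  | zero =>
    intro m
    simp only [zero_add, Finset.sum_range_one, add_zero, Nat.sub_zero]
    exact hdim_left_zero k (cokSeq C d hd m) (cokSeq_shortExact C d hd hex m) (hK m) (hC _) (hK _)
  | succ q ih =>
    intro m
    have h := hdim_left_succ k (cokSeq C d hd m) (cokSeq_shortExact C d hd hex m) (hK m) (hC _) (hK _) q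
    refine h.trans ?_
    rw [Finset.sum_range_succ' _ (q + 1), add_comm]
    simp only [add_zero, Nat.sub_zero, Nat.add_sub_add_right]
    refine add_le_add ((ih (m + 1)).trans (le_of_eq (Finset.sum_congr rfl fun l _ => ?_))) le_rfl
    rw [show m + 1 + 2 + l = m + 2 + (l + 1) by omega]

include hC hex in
theorem abs_hdim_sub_le [Mono (d 0)] (i : ℕ) :
    |(hdim k (C 0) i : ℤ) - (hdim k (C 1) i : ℤ)| ≤
      (Finset.Icc 1 (i + 1)).sum (fun j => ((hdim k (C (j + 1)) (i + 1 - j)) : ℤ)) +
        (Finset.Icc 1 i).sum (fun j => ((hdim k (C (j + 1)) (i - j)) : ℤ)) := by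
  let T : ShortComplex X.Modules := ShortComplex.mk (d 0) (cokernel.π (d 0)) (cokernel.condition _)
  have hT : T.ShortExact :=
    { exact := ShortComplex.exact_of_g_is_cokernel _ (cokernelIsCokernel _)
      mono_f := inferInstanceAs (Mono (d 0))
      epi_g := show Epi (cokernel.π (d 0)) from inferInstance }
  have hK : Coh.IsCoh T.X₃ := isCoh_cokernel (d 0) (hC 0).1 (hC 1)
  have hsum : ∀ n, ∑ j ∈ Finset.Icc 1 (n + 1), hdim k (C (j + 1)) (n + 1 - j) =
      ∑ l ∈ Finset.range (n + 1), hdim k (C (0 + 2 + l)) (n - l) := fun n => by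
    rw [← Finset.Ico_add_one_right_eq_Icc, Finset.sum_Ico_eq_sum_range]
    refine Finset.sum_congr (by simp) fun l _ => ?_
    rw [show 1 + l + 1 = 0 + 2 + l by omega, show n + 1 - (1 + l) = n - l by omega]
  have h1 := hdim_cok_le k C hC d hd hex i 0
  rw [← hsum] at h1
  have h2 := hdim_mid k T hT (hC 0) (hC 1) hK i
  push_cast [abs_le]
  rw [← Nat.cast_sum, ← Nat.cast_sum]
  cases i with
  | zero =>
    have h3 := hdim_left_zero k T hT (hC 0) (hC 1) hK
    simp only [T, zero_add] at h1 h2 h3 ⊢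
    omega
  | succ i =>
    have h3 := hdim_left_succ k T hT (hC 0) (hC 1) hK i
    have h4 := hdim_cok_le k C hC d hd hex i 0
    rw [← hsum] at h4
    simp only [T, zero_add] at h1 h2 h3 h4 ⊢
    omega

end Groth.Agent.LESBound
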